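import Groth.Agent.FpqcDescLib.Closed

/-! Covering sieves for the fpqc topology contain small families with covering coproduct. -/

set_option autoImplicit false
set_option backward.isDefEq.respectTransparency false
set_option backward.isDefEq.respectTransparency.types false

universe u

open CategoryTheory Limits AlgebraicGeometry

namespace Groth.Agent.GrpdQuotSec

open FpqcDescLib

theorem exists_covering_family {T : Scheme.{u}} {R : Sieve T} (hR : R ∈ Scheme.fpqcTopology T) :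
    ∃ (κ : Type u) (Z : κ → Scheme.{u}) (q : ∀ k, Z k ⟶ T), IsCovering (Sigma.desc q) ∧ ∀ k, R (q k) := by
  classical
  obtain ⟨R₀, hR₀, hle⟩ := Precoverage.mem_toGrothendieck_iff_of_isStableUnderComposition.1 hR
  obtain ⟨J, U, u, rfl⟩ := R₀.exists_eq_ofArrows
  haveI hqc : QuasiCompactCover (⟨J, U, u⟩ : PreZeroHypercover.{u + 1} T) :=
    (Scheme.presieve₀_mem_qcPrecoverage_iff (E := ⟨J, U, u⟩)).1 hR₀.1
  have hflat : ∀ i, Flat (u i) := ((Scheme.ofArrows_mem_precoverage_iff _).1 hR₀.2).2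
  choose m a O hOa hOeq using fun V : T.affineOpens =>
    QuasiCompactCover.exists_isAffineOpen_of_isCompact (⟨J, U, u⟩ : PreZeroHypercover.{u + 1} T) (U := V.1) V.2.isCompact
  let κ : Type u := Σ V : T.affineOpens, ULift.{u} (Fin (m V))
  let Z : κ → Scheme.{u} := fun k => (O k.1 k.2.down).toScheme
  let q : ∀ k : κ, Z k ⟶ T := fun k => (O k.1 k.2.down).ι ≫ u (a k.1 k.2.down)
  refine ⟨κ, Z, q, ?_, fun k => R.downward_closed (hle _ _ (Presieve.ofArrows.mk (a k.1 k.2.down))) _⟩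
  haveI : ∀ k, Flat (q k) := fun k => by
    haveI := hflat (a k.1 k.2.down)
    exact inferInstanceAs (Flat ((O k.1 k.2.down).ι ≫ u (a k.1 k.2.down)))
  haveI : Flat (Sigma.desc q) := IsZariskiLocalAtSource.sigmaDesc fun k => inferInstance
  have himg : ∀ (V : T.affineOpens) (j : Fin (m V)), Set.range (q ⟨V, ⟨j⟩⟩) = u (a V j) '' (O V j : Set (U (a V j))) := by
    intro V j
    rw [← Scheme.Opens.range_ι (O V j), ← Set.range_comp]
    rfl
  haveI : Surjective (Sigma.desc q) := ⟨fun x => by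
    obtain ⟨V, hV, hxV, -⟩ := exists_isAffineOpen_mem_and_subset (X := T) (x := x) (U := ⊤) trivial
    have hx : x ∈ (V : Set T) := hxV
    rw [← hOeq ⟨V, hV⟩, Set.mem_iUnion] at hx
    obtain ⟨j, hj⟩ := hx
    obtain ⟨z, hz⟩ := (himg ⟨V, hV⟩ j).ge hj
    exact ⟨Sigma.ι Z ⟨⟨V, hV⟩, ⟨j⟩⟩ z, by rw [← Scheme.Hom.comp_apply, Sigma.ι_desc]; exact hz⟩⟩
  refine isCovering_of_flat _ fun V hV => ?_
  refine ⟨⨆ j : Fin (m ⟨V, hV⟩), (Sigma.ι Z ⟨⟨V, hV⟩, ⟨j⟩⟩).opensRange, ?_, ?_⟩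
  · rw [TopologicalSpace.Opens.coe_iSup]
    refine isCompact_iUnion fun j => ?_
    haveI : CompactSpace ↥(Z ⟨⟨V, hV⟩, ⟨j⟩⟩) := isCompact_iff_compactSpace.mp (hOa ⟨V, hV⟩ j).isCompact
    rw [Scheme.Hom.coe_opensRange]
    exact isCompact_range (Scheme.Hom.continuous _)
  · rw [TopologicalSpace.Opens.coe_iSup, Set.image_iUnion, ← hOeq ⟨V, hV⟩]
    refine Set.iUnion_congr fun j => ?_
    rw [Scheme.Hom.coe_opensRange, ← Set.range_comp, ← TopCat.coe_comp, ← Scheme.Hom.comp_base, Sigma.ι_desc]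
    exact himg ⟨V, hV⟩ j

end Groth.Agent.GrpdQuotSec
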