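import Groth.Agent.GrpdQuotSec.Main
import Groth.Agent.S6041
import Groth.Agent.AlgSpLib.Sheaf
import Groth.Agent.AlgSpPts.Quot

/-! For a closed graph the fppf quotient sheaf is an fpqc sheaf. -/

set_option autoImplicit false
set_option backward.isDefEq.respectTransparency false
set_option backward.isDefEq.respectTransparency.types false

universe u

open CategoryTheory Limits MonoidalCategory CartesianMonoidalCategory AlgebraicGeometry Opposite

namespace Groth.Agent.GrpdQuotSec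

open FpqcDescLib

variable {S : Scheme.{u}} {R U : Over S}

theorem J_le : QuotSh.J Scheme.fppfPrecoverage S ≤ J S := by
  intro X Rs hR
  rw [GrothendieckTopology.mem_over_iff] at hR ⊢
  exact Scheme.fppfTopology_le_fpqcTopology _ hR

/-- An fpqc sheaf as an fppf sheaf. -/
def toFppf (F : QuotSh.Sh Scheme.fpqcPrecoverage S) : AlgSp.Sp S :=
  ⟨F.obj, (isSheaf_iff_isSheaf_of_type _ _).2
    (Presieve.isSheaf_of_le F.obj J_le ((isSheaf_iff_isSheaf_of_type _ _).1 F.property))⟩

/-- A morphism from a representable, for the two topologies. -/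
def homFppf {V : Over S} {F : QuotSh.Sh Scheme.fpqcPrecoverage S} (f : (yon S).obj V ⟶ F) :
    (AlgSp.yon S).obj V ⟶ toFppf F :=
  ⟨f.hom⟩

/-- A morphism from a representable, for the two topologies. -/
def homFpqc {V : Over S} {F : QuotSh.Sh Scheme.fpqcPrecoverage S} (f : (AlgSp.yon S).obj V ⟶ toFppf F) :
    (yon S).obj V ⟶ F :=
  ⟨f.hom⟩

theorem homFpqc_comp {V W : Over S} {F : QuotSh.Sh Scheme.fpqcPrecoverage S} (g : V ⟶ W)
    (f : (AlgSp.yon S).obj W ⟶ toFppf F) :
    homFpqc ((AlgSp.yon S).map g ≫ f) = (yon S).map g ≫ homFpqc f := rfl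

variable (s t : R ⟶ U)

/-- The fppf quotient map. -/
noncomputable abbrev fmap : (AlgSp.yon S).obj U ⟶ QuotSh.quot Scheme.fppfPrecoverage s t :=
  AlgSpPts.quotMap s t

theorem yon_repIso' {V W : Over S} (g : V ⟶ W) :
    (AlgSp.yon S).map g ≫ (QuotSh.repIsoUliftYoneda Scheme.fppfPrecoverage W).inv =
      (QuotSh.repIsoUliftYoneda Scheme.fppfPrecoverage V).inv ≫ QuotSh.repMap Scheme.fppfPrecoverage g := by
  rw [Iso.eq_inv_comp, ← Category.assoc, AlgStLib.QuotShEff.repMap_iso, Category.assoc, Iso.hom_inv_id,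
    Category.comp_id]

variable [IsEquivalenceRelation s t]

theorem exists_comparison : ∃ c : QuotSh.quot Scheme.fppfPrecoverage s t ⟶ toFppf (QuotSh.quot Scheme.fpqcPrecoverage s t),
    fmap s t ≫ c = homFppf (qmap s t) := by
  have hw : (yon S).map s ≫ qmap s t = (yon S).map t ≫ qmap s t := by
    refine (qmap_eq_iff s t s t).2 ?_
    obtain ⟨v, hv1, hv2⟩ := (AlgStLib.QuotShEff.isEqvRel_of_isEquivalenceRelation (s := s) (t := t)).equivalence R
      |>.symm ⟨𝟙 R, Category.id_comp t, Category.id_comp s⟩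
    exact ⟨v, hv1, hv2⟩
  have hw' : QuotSh.repMap Scheme.fppfPrecoverage s ≫ (QuotSh.repIsoUliftYoneda Scheme.fppfPrecoverage U).hom ≫
      homFppf (qmap s t) = QuotSh.repMap Scheme.fppfPrecoverage t ≫
      (QuotSh.repIsoUliftYoneda Scheme.fppfPrecoverage U).hom ≫ homFppf (qmap s t) := by
    rw [← Category.assoc, ← Category.assoc, ← AlgStLib.QuotShEff.repMap_iso, ← AlgStLib.QuotShEff.repMap_iso,
      Category.assoc, Category.assoc]
    congr 1
    exact ObjectProperty.hom_ext _ (congrArg (fun f : (yon S).obj R ⟶ QuotSh.quot Scheme.fpqcPrecoverage s t => f.hom) hw)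
  refine ⟨coequalizer.desc _ hw', ?_⟩
  show ((QuotSh.repIsoUliftYoneda Scheme.fppfPrecoverage U).inv ≫ QuotSh.quotπ Scheme.fppfPrecoverage s t) ≫ _ = _
  rw [Category.assoc, show QuotSh.quotπ Scheme.fppfPrecoverage s t ≫ coequalizer.desc _ hw' = _ from
    coequalizer.π_desc _ _, Iso.inv_hom_id_assoc]

theorem isSheaf_quot [Flat s.left] [Surjective s.left] [LocallyOfFinitePresentation s.left]
    (hc : IsClosedImmersion (lift t s).left) :
    Presheaf.IsSheaf (J S) (QuotSh.quot Scheme.fppfPrecoverage s t).obj := by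
  haveI := EtFound.fpqc_isClosedImmersion.{u}
  obtain ⟨c, hcq⟩ := exists_comparison s t
  haveI : Epi (QuotSh.quotπ Scheme.fppfPrecoverage s t) := by unfold QuotSh.quotπ; infer_instance
  haveI : Sheaf.IsLocallySurjective (fmap s t) := (Sheaf.isLocallySurjective_iff_epi _).2 inferInstance
  have hbij : ∀ T : Over S, Function.Bijective
      (fun τ : (AlgSp.yon S).obj T ⟶ QuotSh.quot Scheme.fppfPrecoverage s t => τ ≫ c) := by
    intro T
    refine ⟨fun τ₁ τ₂ h => ?_, fun σ₀ => ?_⟩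
    · change τ₁ ≫ c = τ₂ ≫ c at h
      obtain ⟨R₁, hR₁, hl₁⟩ := AlgSpLib.exists_covering_lifts (fmap s t) τ₁
      obtain ⟨R₂, hR₂, hl₂⟩ := AlgSpLib.exists_covering_lifts (fmap s t) τ₂
      refine AlgSpLib.hom_ext_of_covering τ₁ τ₂ (GrothendieckTopology.intersection_covering _ hR₁ hR₂) fun T' φ hφ => ?_
      obtain ⟨l₁, e₁⟩ := hl₁ φ hφ.1
      obtain ⟨l₂, e₂⟩ := hl₂ φ hφ.2
      obtain ⟨a, rfl⟩ := (AlgSp.yon S).map_surjective l₁
      obtain ⟨b, rfl⟩ := (AlgSp.yon S).map_surjective l₂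
      have hab : (yon S).map a ≫ qmap s t = (yon S).map b ≫ qmap s t := by
        have : (AlgSp.yon S).map a ≫ homFppf (qmap s t) = (AlgSp.yon S).map b ≫ homFppf (qmap s t) := by
          have ea : (AlgSp.yon S).map a ≫ fmap s t ≫ c = (AlgSp.yon S).map φ ≫ τ₁ ≫ c :=
            (Category.assoc _ _ _).symm.trans ((congrArg (· ≫ c) e₁).trans (Category.assoc _ _ _))
          have eb : (AlgSp.yon S).map b ≫ fmap s t ≫ c = (AlgSp.yon S).map φ ≫ τ₂ ≫ c :=
            (Category.assoc _ _ _).symm.trans ((congrArg (· ≫ c) e₂).trans (Category.assoc _ _ _))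
          rw [← hcq, ea, eb, h]
        exact congrArg homFpqc this
      obtain ⟨r, hr1, hr2⟩ := (qmap_eq_iff s t a b).1 hab
      rw [← e₁, ← e₂, ← hr1, ← hr2, Functor.map_comp, Functor.map_comp, Category.assoc, Category.assoc]
      rw [(AlgSpPts.isPullback_quotMap (AlgStLib.QuotShEff.isEqvRel_of_isEquivalenceRelation (s := s) (t := t))).w]
    · obtain ⟨Z, i, _, -, hmem, hQ⟩ := exists_subscheme s t (homFpqc σ₀) @IsClosedImmersion closed_spec_instances hc
      have hi := (hmem Z i).1 ⟨𝟙 Z, Category.id_comp i⟩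
      haveI hf : Flat (i ≫ snd U T).left := hQ @Flat inferInstance
      haveI hs : Surjective (i ≫ snd U T).left := hQ @Surjective inferInstance
      haveI hp : LocallyOfFinitePresentation (i ≫ snd U T).left := hQ @LocallyOfFinitePresentation inferInstance
      obtain ⟨τ', hτ', -⟩ := S6041.result s t T Z i fun T' z₁ z₂ h => by
        obtain ⟨r, h1, h2⟩ := rel_rel s t _ (rel_comp s t _ z₁ hi) (rel_comp s t _ z₂ hi)
          (by simpa only [Category.assoc] using h)
        exact ⟨r, by simpa only [Category.assoc] using h1, by simpa only [Category.assoc] using h2⟩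
      refine ⟨(QuotSh.repIsoUliftYoneda Scheme.fppfPrecoverage T).inv ≫ τ', ?_⟩
      refine AlgSpLib.hom_ext_of_fppf (i ≫ snd U T) ⟨⟨hs, hf⟩, hp⟩ _ _ ?_
      have h1 : (AlgSp.yon S).map (i ≫ snd U T) ≫ (QuotSh.repIsoUliftYoneda Scheme.fppfPrecoverage T).inv ≫ τ' =
          (AlgSp.yon S).map (i ≫ fst U T) ≫ fmap s t := by
        rw [← Category.assoc, yon_repIso', Category.assoc, ← hτ', ← Category.assoc, ← yon_repIso', Category.assoc]
      show (AlgSp.yon S).map (i ≫ snd U T) ≫ ((QuotSh.repIsoUliftYoneda Scheme.fppfPrecoverage T).inv ≫ τ') ≫ c = _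
      rw [← Category.assoc, h1, Category.assoc, hcq]
      exact congrArg homFppf hi
  haveI : ∀ X, IsIso (c.hom.app X) := fun X => (isIso_iff_bijective _).2 (by
    obtain ⟨T, rfl⟩ : ∃ T, X = op T := ⟨X.unop, rfl⟩
    have h : ∀ τ, c.hom.app (op T) ((AlgSp.J S).uliftYonedaEquiv.{u + 1} τ) = (AlgSp.J S).uliftYonedaEquiv.{u + 1} (τ ≫ c) :=
      fun τ => (GrothendieckTopology.uliftYonedaEquiv_comp _ τ c).symm
    refine ⟨fun x y e => ?_, fun z => ?_⟩
    · obtain ⟨x, rfl⟩ := (AlgSp.J S).uliftYonedaEquiv.{u + 1}.surjective x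
      obtain ⟨y, rfl⟩ := (AlgSp.J S).uliftYonedaEquiv.{u + 1}.surjective y
      change c.hom.app (op T) _ = c.hom.app (op T) _ at e
      rw [h, h] at e
      exact congrArg _ ((hbij T).1 ((AlgSp.J S).uliftYonedaEquiv.{u + 1}.injective e))
    · obtain ⟨z, rfl⟩ := (AlgSp.J S).uliftYonedaEquiv.{u + 1}.surjective z
      obtain ⟨τ, rfl⟩ := (hbij T).2 z
      exact ⟨_, h τ⟩)
  haveI : IsIso c.hom := NatIso.isIso_of_isIso_app _
  exact (Presheaf.isSheaf_of_iso_iff (asIso c.hom)).2 (QuotSh.quot Scheme.fpqcPrecoverage s t).property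

end Groth.Agent.GrpdQuotSec
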