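import Groth.Agent.GrpdQuotSec.Sec

/-! The two halves of the description of sections by stable subschemes. -/

set_option autoImplicit false
set_option backward.isDefEq.respectTransparency false
set_option backward.isDefEq.respectTransparency.types false

universe u

open CategoryTheory Limits MonoidalCategory CartesianMonoidalCategory AlgebraicGeometry Opposite

namespace Groth.Agent.GrpdQuotSec

open FpqcDescLib

variable {S : Scheme.{u}} {R U : Over S}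

theorem rel_iff_repMap (s t : R ⟶ U) {T : Over S}
    (σ : QuotSh.rep Scheme.fpqcPrecoverage T ⟶ QuotSh.quot Scheme.fpqcPrecoverage s t)
    {T' : Over S} (x : T' ⟶ U ⊗ T) :
    Rel s t ((QuotSh.repIsoUliftYoneda Scheme.fpqcPrecoverage T).inv ≫ σ) x ↔
      QuotSh.repMap Scheme.fpqcPrecoverage (x ≫ fst U T) ≫ QuotSh.quotπ Scheme.fpqcPrecoverage s t =
        QuotSh.repMap Scheme.fpqcPrecoverage (x ≫ snd U T) ≫ σ := by
  simp only [Rel, qmap, ← Category.assoc ((yon S).map _), yon_repIso]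
  simp only [Category.assoc, cancel_epi]

theorem subscheme_spec (P : MorphismProperty Scheme.{u}) [P.IsStableUnderBaseChange] [IsZariskiLocalAtTarget P]
    [P.DescendsAlong (@Surjective ⊓ @Flat ⊓ @QuasiCompact)] (hPimm : P ≤ @IsImmersion)
    (s t : R ⟶ U) [IsEquivalenceRelation s t] [Flat s.left] [Surjective s.left] [QuasiCompact s.left]
    (hc : P (lift t s).left) (T : Over S)
    (σ : QuotSh.rep Scheme.fpqcPrecoverage T ⟶ QuotSh.quot Scheme.fpqcPrecoverage s t) :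
    (∃ (Z : Over S) (i : Z ⟶ U ⊗ T), P i.left ∧
      (∀ (T' : Over S) (r : T' ⟶ R ⊗ T),
        (∃ z : T' ⟶ Z, z ≫ i = r ≫ (s ▷ T)) ↔ (∃ z : T' ⟶ Z, z ≫ i = r ≫ (t ▷ T))) ∧
      Flat (i ≫ snd U T).left ∧ Surjective (i ≫ snd U T).left ∧
      QuasiCompact (i ≫ snd U T).left ∧
      (∀ (T' : Over S) (z₁ z₂ : T' ⟶ Z), z₁ ≫ i ≫ snd U T = z₂ ≫ i ≫ snd U T →
        ∃ r : T' ⟶ R, r ≫ s = z₁ ≫ i ≫ fst U T ∧ r ≫ t = z₂ ≫ i ≫ fst U T) ∧
      QuotSh.repMap Scheme.fpqcPrecoverage (i ≫ fst U T) ≫ QuotSh.quotπ Scheme.fpqcPrecoverage s t =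
        QuotSh.repMap Scheme.fpqcPrecoverage (i ≫ snd U T) ≫ σ) ∧
    (∀ (Z Z' : Over S) (i : Z ⟶ U ⊗ T) (i' : Z' ⟶ U ⊗ T),
      P i.left → P i'.left →
      (∀ (T' : Over S) (r : T' ⟶ R ⊗ T),
        (∃ z : T' ⟶ Z, z ≫ i = r ≫ (s ▷ T)) ↔ (∃ z : T' ⟶ Z, z ≫ i = r ≫ (t ▷ T))) →
      (∀ (T' : Over S) (r : T' ⟶ R ⊗ T),
        (∃ z : T' ⟶ Z', z ≫ i' = r ≫ (s ▷ T)) ↔ (∃ z : T' ⟶ Z', z ≫ i' = r ≫ (t ▷ T))) →
      Flat (i ≫ snd U T).left → Surjective (i ≫ snd U T).left →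
      QuasiCompact (i ≫ snd U T).left →
      Flat (i' ≫ snd U T).left → Surjective (i' ≫ snd U T).left →
      QuasiCompact (i' ≫ snd U T).left →
      (∀ (T' : Over S) (z₁ z₂ : T' ⟶ Z), z₁ ≫ i ≫ snd U T = z₂ ≫ i ≫ snd U T →
        ∃ r : T' ⟶ R, r ≫ s = z₁ ≫ i ≫ fst U T ∧ r ≫ t = z₂ ≫ i ≫ fst U T) →
      (∀ (T' : Over S) (z₁ z₂ : T' ⟶ Z'), z₁ ≫ i' ≫ snd U T = z₂ ≫ i' ≫ snd U T →
        ∃ r : T' ⟶ R, r ≫ s = z₁ ≫ i' ≫ fst U T ∧ r ≫ t = z₂ ≫ i' ≫ fst U T) →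
      QuotSh.repMap Scheme.fpqcPrecoverage (i ≫ fst U T) ≫ QuotSh.quotπ Scheme.fpqcPrecoverage s t =
        QuotSh.repMap Scheme.fpqcPrecoverage (i ≫ snd U T) ≫ σ →
      QuotSh.repMap Scheme.fpqcPrecoverage (i' ≫ fst U T) ≫ QuotSh.quotπ Scheme.fpqcPrecoverage s t =
        QuotSh.repMap Scheme.fpqcPrecoverage (i' ≫ snd U T) ≫ σ →
      ∃ e : Z ≅ Z', e.hom ≫ i' = i) := by
  haveI := EtFound.fpqc_quasiCompact.{u}
  constructor
  · obtain ⟨Z, i, _, hPi, hmem, hQ⟩ :=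
      exists_subscheme s t ((QuotSh.repIsoUliftYoneda Scheme.fpqcPrecoverage T).inv ≫ σ) P hPimm hc
    have hi := (hmem Z i).1 ⟨𝟙 Z, Category.id_comp i⟩
    refine ⟨Z, i, hPi, fun T' r => by rw [hmem, hmem]; exact rel_stable s t _ r,
      hQ @Flat inferInstance, hQ @Surjective inferInstance, hQ @QuasiCompact inferInstance,
      fun T' z₁ z₂ h => ?_, (rel_iff_repMap s t σ i).1 hi⟩
    obtain ⟨r, h1, h2⟩ := rel_rel s t _ (rel_comp s t _ z₁ hi) (rel_comp s t _ z₂ hi)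
      (by simpa only [Category.assoc] using h)
    exact ⟨r, by simpa only [Category.assoc] using h1, by simpa only [Category.assoc] using h2⟩
  · intro Z Z' i i' hP hP' hst hst' hfl hsu hqc hfl' hsu' hqc' _ _ he he'
    haveI := hPimm _ hP
    haveI := hPimm _ hP'
    haveI : Mono i := (Over.forget S).mono_of_mono_map (inferInstanceAs (Mono i.left))
    haveI : Mono i' := (Over.forget S).mono_of_mono_map (inferInstanceAs (Mono i'.left))
    refine exists_unique_iso i i' fun T' x => ?_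
    rw [factors_iff s t _ Z i hst (isCovering_of_quasiCompact _) ((rel_iff_repMap s t σ i).2 he) x,
      factors_iff s t _ Z' i' hst' (isCovering_of_quasiCompact _) ((rel_iff_repMap s t σ i').2 he') x]

theorem closed_spec_instances : (@IsClosedImmersion : MorphismProperty Scheme.{u}) ≤ @IsImmersion :=
  fun _ _ f (_ : IsClosedImmersion f) => inferInstance

theorem open_spec_instances : (@IsOpenImmersion : MorphismProperty Scheme.{u}) ≤ @IsImmersion :=
  fun _ _ f (_ : IsOpenImmersion f) => inferInstance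

end Groth.Agent.GrpdQuotSec
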