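import Groth.Agent.GrpdQuotSec.Cover
import Groth.Agent.AlgStLib.QuotShEff

/-! Points of the fpqc quotient sheaf of an equivalence relation. -/

set_option autoImplicit false
set_option backward.isDefEq.respectTransparency false
set_option backward.isDefEq.respectTransparency.types false

universe u

open CategoryTheory Limits MonoidalCategory CartesianMonoidalCategory AlgebraicGeometry Opposite

namespace Groth.Agent.GrpdQuotSec

open FpqcDescLib

variable {S : Scheme.{u}}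

/-- The fpqc topology on schemes over `S`. -/
noncomputable abbrev J (S : Scheme.{u}) : GrothendieckTopology (Over S) := QuotSh.J Scheme.fpqcPrecoverage S

/-- Representable fpqc sheaves. -/
noncomputable abbrev yon (S : Scheme.{u}) : Over S ⥤ QuotSh.Sh Scheme.fpqcPrecoverage S :=
  (J S).uliftYoneda.{u + 1}

theorem mem_J_of_covering {T T' : Over S} (p : T' ⟶ T) (hp : IsCovering p.left) {R : Sieve T} (h : R p) :
    R ∈ J S T := by
  rw [GrothendieckTopology.mem_over_iff]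
  refine GrothendieckTopology.superset_covering _ ?_ (Precoverage.generate_mem_toGrothendieck hp)
  rw [Sieve.generate_le_iff]
  rintro _ _ ⟨⟩
  rw [Sieve.overEquiv_iff]
  convert R.downward_closed h (Over.homMk (U := Over.mk (p.left ≫ T.hom)) (V := T') (𝟙 T'.left)
    (by simp)) using 1
  ext
  simp

theorem mem_J_of_sigma {κ : Type u} {Z : κ → Scheme.{u}} (z : (∐ Z) ⟶ S) {R : Sieve (Over.mk z)}
    (h : ∀ k, R (Over.homMk (U := Over.mk (Sigma.ι Z k ≫ z)) (Sigma.ι Z k) rfl)) : R ∈ J S (Over.mk z) := by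
  rw [GrothendieckTopology.mem_over_iff]
  refine GrothendieckTopology.superset_covering _ ?_ (Precoverage.generate_mem_toGrothendieck
    (Scheme.zariskiPrecoverage_le_fpqcPrecoverage _ (sigmaOpenCover Z).mem₀))
  rw [Sieve.generate_le_iff]
  rintro _ _ ⟨k⟩
  rw [Sieve.overEquiv_iff]
  exact h k

theorem uliftYonedaEquiv_precomp {T T' : Over S} {F : QuotSh.Sh Scheme.fpqcPrecoverage S} (φ : T' ⟶ T)
    (g : (yon S).obj T ⟶ F) :
    F.obj.map φ.op ((J S).uliftYonedaEquiv g) = (J S).uliftYonedaEquiv ((yon S).map φ ≫ g) :=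
  GrothendieckTopology.uliftYonedaEquiv_naturality _ g φ

theorem exists_covering_lifts {F G : QuotSh.Sh Scheme.fpqcPrecoverage S} (f : F ⟶ G)
    [Sheaf.IsLocallySurjective f] {T : Over S} (g : (yon S).obj T ⟶ G) :
    ∃ R ∈ J S T, ∀ ⦃T' : Over S⦄ (φ : T' ⟶ T), R φ →
      ∃ l : (yon S).obj T' ⟶ F, l ≫ f = (yon S).map φ ≫ g := by
  refine ⟨_, Presheaf.imageSieve_mem (J S) f.hom ((J S).uliftYonedaEquiv g), fun T' φ hφ => ?_⟩
  obtain ⟨l, hl⟩ := hφ
  refine ⟨(J S).uliftYonedaEquiv.symm l, (J S).uliftYonedaEquiv.injective ?_⟩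
  rw [GrothendieckTopology.uliftYonedaEquiv_comp, Equiv.apply_symm_apply, ← uliftYonedaEquiv_precomp]
  exact hl

theorem hom_ext_of_covering {F : QuotSh.Sh Scheme.fpqcPrecoverage S} {T : Over S} (a b : (yon S).obj T ⟶ F)
    {R : Sieve T} (hR : R ∈ J S T)
    (h : ∀ ⦃T' : Over S⦄ (φ : T' ⟶ T), R φ → (yon S).map φ ≫ a = (yon S).map φ ≫ b) : a = b := by
  apply (J S).uliftYonedaEquiv.injective
  refine (((isSheaf_iff_isSheaf_of_type _ _).1 F.property).isSeparated R hR).ext fun T' φ hφ => ?_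
  rw [uliftYonedaEquiv_precomp, uliftYonedaEquiv_precomp, h φ hφ]

theorem hom_ext_of_isCovering {F : QuotSh.Sh Scheme.fpqcPrecoverage S} {T T' : Over S} (p : T' ⟶ T)
    (hp : IsCovering p.left) (a b : (yon S).obj T ⟶ F) (h : (yon S).map p ≫ a = (yon S).map p ≫ b) : a = b := by
  refine hom_ext_of_covering a b (R := Sieve.generate (Presieve.singleton p))
    (mem_J_of_covering p hp ⟨T', 𝟙 T', p, Presieve.singleton_self p, Category.id_comp _⟩) ?_
  rintro T'' _ ⟨_, ψ, _, ⟨⟩, rfl⟩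
  rw [Functor.map_comp, Category.assoc, Category.assoc, h]

variable {R U : Over S}

/-- The quotient map from the sheaf of `U`. -/
noncomputable abbrev qmap (s t : R ⟶ U) : (yon S).obj U ⟶ QuotSh.quot Scheme.fpqcPrecoverage s t :=
  (QuotSh.repIsoUliftYoneda Scheme.fpqcPrecoverage U).inv ≫ QuotSh.quotπ Scheme.fpqcPrecoverage s t

theorem yon_repIso {V W : Over S} (g : V ⟶ W) :
    (yon S).map g ≫ (QuotSh.repIsoUliftYoneda Scheme.fpqcPrecoverage W).inv =
      (QuotSh.repIsoUliftYoneda Scheme.fpqcPrecoverage V).inv ≫ QuotSh.repMap Scheme.fpqcPrecoverage g := by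
  rw [Iso.eq_inv_comp, ← Category.assoc, AlgStLib.QuotShEff.repMap_iso, Category.assoc, Iso.hom_inv_id,
    Category.comp_id]

theorem qmap_eq_iff (s t : R ⟶ U) [IsEquivalenceRelation s t] {T : Over S} (a b : T ⟶ U) :
    (yon S).map a ≫ qmap s t = (yon S).map b ≫ qmap s t ↔ ∃ r : T ⟶ R, r ≫ t = a ∧ r ≫ s = b := by
  have sq : IsPullback ((yon S).map t) ((yon S).map s) (qmap s t) (qmap s t) :=
    (AlgSpPts.isPullback_quotπ Scheme.fpqcPrecoverage
      (AlgStLib.QuotShEff.isEqvRel_of_isEquivalenceRelation (s := s) (t := t))).of_iso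
      (QuotSh.repIsoUliftYoneda _ R) (QuotSh.repIsoUliftYoneda _ U) (QuotSh.repIsoUliftYoneda _ U) (Iso.refl _)
      (AlgStLib.QuotShEff.repMap_iso _ t).symm (AlgStLib.QuotShEff.repMap_iso _ s).symm (by simp) (by simp)
  constructor
  · intro h
    obtain ⟨r, hr⟩ := (yon S).map_surjective (sq.lift ((yon S).map a) ((yon S).map b) h)
    exact ⟨r, (yon S).map_injective (by rw [Functor.map_comp, hr, sq.lift_fst]),
      (yon S).map_injective (by rw [Functor.map_comp, hr, sq.lift_snd])⟩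
  · rintro ⟨r, rfl, rfl⟩
    rw [Functor.map_comp, Functor.map_comp, Category.assoc, Category.assoc, sq.w]

/-- Every section of the quotient lifts after a covering. -/
theorem exists_lift (s t : R ⟶ U) {T : Over S} (σ : (yon S).obj T ⟶ QuotSh.quot Scheme.fpqcPrecoverage s t) :
    ∃ (T₁ : Over S) (q : T₁ ⟶ T) (a : T₁ ⟶ U), IsCovering q.left ∧
      (yon S).map a ≫ qmap s t = (yon S).map q ≫ σ := by
  haveI : Epi (QuotSh.quotπ Scheme.fpqcPrecoverage s t) := by unfold QuotSh.quotπ; infer_instance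
  haveI : Sheaf.IsLocallySurjective (qmap s t) := (Sheaf.isLocallySurjective_iff_epi _).2 inferInstance
  obtain ⟨Rs, hRs, hl⟩ := exists_covering_lifts (qmap s t) σ
  rw [GrothendieckTopology.mem_over_iff] at hRs
  obtain ⟨κ, Z, q, hq, hqR⟩ := exists_covering_family hRs
  have hk : ∀ k, ∃ a : Over.mk (q k ≫ T.hom) ⟶ U,
      (yon S).map a ≫ qmap s t = (yon S).map (Over.homMk (q k) rfl : Over.mk (q k ≫ T.hom) ⟶ T) ≫ σ := fun k => by
    obtain ⟨l, hl⟩ := hl _ ((Sieve.overEquiv_iff Rs (q k)).1 (hqR k))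
    obtain ⟨a, rfl⟩ := (yon S).map_surjective l
    exact ⟨a, hl⟩
  choose a ha using hk
  let z : (∐ Z) ⟶ S := Sigma.desc q ≫ T.hom
  let A : Over.mk z ⟶ U := Over.homMk (Sigma.desc fun k => (a k).left) (Sigma.hom_ext _ _ fun k => by
    rw [Sigma.ι_desc_assoc]
    exact (Over.w (a k)).trans (Sigma.ι_desc_assoc q k T.hom).symm)
  let Q : Over.mk z ⟶ T := Over.homMk (Sigma.desc q) rfl
  refine ⟨Over.mk z, Q, A, hq, ?_⟩
  refine hom_ext_of_covering _ _ (R := Sieve.generate (Presieve.ofArrows _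
    (fun k => (Over.homMk (U := Over.mk (Sigma.ι Z k ≫ z)) (Sigma.ι Z k) rfl : _ ⟶ Over.mk z))))
    (mem_J_of_sigma z fun k => ⟨_, 𝟙 _, _, Presieve.ofArrows.mk k, Category.id_comp _⟩) ?_
  rintro T' _ ⟨_, g, _, ⟨k⟩, rfl⟩
  let e : Over.mk (Sigma.ι Z k ≫ z) ⟶ Over.mk (q k ≫ T.hom) := Over.homMk (𝟙 _) (by
    show 𝟙 _ ≫ q k ≫ T.hom = Sigma.ι Z k ≫ z
    simp [z])
  have e1 : (Over.homMk (Sigma.ι Z k) rfl : Over.mk (Sigma.ι Z k ≫ z) ⟶ Over.mk z) ≫ A = e ≫ a k :=
    Over.OverMorphism.ext (by simp [A, e])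
  have e2 : (Over.homMk (Sigma.ι Z k) rfl : Over.mk (Sigma.ι Z k ≫ z) ⟶ Over.mk z) ≫ Q = e ≫ Over.homMk (q k) rfl :=
    Over.OverMorphism.ext (by simp [Q, e])
  have h1 : (yon S).map (Over.homMk (Sigma.ι Z k) rfl : Over.mk (Sigma.ι Z k ≫ z) ⟶ Over.mk z) ≫ (yon S).map A ≫
      qmap s t = (yon S).map e ≫ (yon S).map (a k) ≫ qmap s t := by
    rw [← Functor.map_comp_assoc, e1, Functor.map_comp_assoc]
  have h2 : (yon S).map (Over.homMk (Sigma.ι Z k) rfl : Over.mk (Sigma.ι Z k ≫ z) ⟶ Over.mk z) ≫ (yon S).map Q ≫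
      σ = (yon S).map e ≫ (yon S).map (Over.homMk (q k) rfl : Over.mk (q k ≫ T.hom) ⟶ T) ≫ σ := by
    rw [← Functor.map_comp_assoc, e2, Functor.map_comp_assoc]
  show (yon S).map (g ≫ _) ≫ (yon S).map A ≫ qmap s t = (yon S).map (g ≫ _) ≫ (yon S).map Q ≫ σ
  rw [Functor.map_comp, Category.assoc, Category.assoc, h1, h2, ha]

end Groth.Agent.GrpdQuotSec
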