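import Groth.Agent.GrpdQuotSec.Point
import Groth.Agent.DescLib.IndQAEff
import Groth.Agent.EtFound.Descent

/-! Sections of the fpqc quotient sheaf are stable subschemes. -/

set_option autoImplicit false
set_option backward.isDefEq.respectTransparency false
set_option backward.isDefEq.respectTransparency.types false

universe u

open CategoryTheory Limits MonoidalCategory CartesianMonoidalCategory AlgebraicGeometry Opposite

namespace Groth.Agent.GrpdQuotSec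

open FpqcDescLib

variable {S : Scheme.{u}} {R U : Over S}

theorem isPullback_whiskerLeft (X : Over S) {T T₁ : Over S} (q : T₁ ⟶ T) :
    IsPullback (snd X T₁) (X ◁ q) q (snd X T) := by
  have w : snd X T₁ ≫ q = (X ◁ q) ≫ snd X T := (whiskerLeft_snd _ _).symm
  refine IsPullback.of_isLimit' ⟨w⟩ (PullbackCone.IsLimit.mk _
    (fun c => lift (c.snd ≫ fst X T) c.fst) (fun c => lift_snd _ _) (fun c => ?_) (fun c m h₁ h₂ => ?_))
  · apply CartesianMonoidalCategory.hom_ext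
    · rw [Category.assoc, whiskerLeft_fst, lift_fst]
    · rw [Category.assoc, whiskerLeft_snd, lift_snd_assoc, c.condition]
  · apply CartesianMonoidalCategory.hom_ext
    · rw [lift_fst, ← h₂, Category.assoc, whiskerLeft_fst]
    · rw [lift_snd, ← h₁]

variable (s t : R ⟶ U) {T : Over S} (σ : (yon S).obj T ⟶ QuotSh.quot Scheme.fpqcPrecoverage s t)

/-- A point of `U × T` is related to the section. -/
def Rel {T' : Over S} (x : T' ⟶ U ⊗ T) : Prop :=
  (yon S).map (x ≫ fst U T) ≫ qmap s t = (yon S).map (x ≫ snd U T) ≫ σ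

theorem rel_comp {T' T'' : Over S} (p : T'' ⟶ T') {x : T' ⟶ U ⊗ T} (h : Rel s t σ x) : Rel s t σ (p ≫ x) := by
  simp only [Rel, Category.assoc, Functor.map_comp] at h ⊢
  rw [h]

theorem rel_local {T' T'' : Over S} (p : T'' ⟶ T') (hp : IsCovering p.left) {x : T' ⟶ U ⊗ T}
    (h : Rel s t σ (p ≫ x)) : Rel s t σ x := by
  refine hom_ext_of_isCovering p hp _ _ ?_
  simp only [Rel, Category.assoc, Functor.map_comp] at h ⊢
  exact h

variable [IsEquivalenceRelation s t]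

theorem rel_rel {T' : Over S} {z₁ z₂ : T' ⟶ U ⊗ T} (h₁ : Rel s t σ z₁) (h₂ : Rel s t σ z₂)
    (h : z₁ ≫ snd U T = z₂ ≫ snd U T) : ∃ r : T' ⟶ R, r ≫ s = z₁ ≫ fst U T ∧ r ≫ t = z₂ ≫ fst U T := by
  obtain ⟨r, hr1, hr2⟩ := (qmap_eq_iff s t (z₂ ≫ fst U T) (z₁ ≫ fst U T)).1 (by
    simp only [Rel] at h₁ h₂
    rw [h₁, h₂, h])
  exact ⟨r, hr2, hr1⟩

theorem rel_stable {T' : Over S} (r : T' ⟶ R ⊗ T) : Rel s t σ (r ≫ (s ▷ T)) ↔ Rel s t σ (r ≫ (t ▷ T)) := by
  have h : (yon S).map ((r ≫ (s ▷ T)) ≫ fst U T) ≫ qmap s t = (yon S).map ((r ≫ (t ▷ T)) ≫ fst U T) ≫ qmap s t := by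
    refine (qmap_eq_iff s t _ _).2 ?_
    obtain ⟨v, hv1, hv2⟩ := (AlgStLib.QuotShEff.isEqvRel_of_isEquivalenceRelation (s := s) (t := t)).equivalence T'
      |>.symm ⟨r ≫ fst R T, rfl, rfl⟩
    exact ⟨v, by rw [Category.assoc, whiskerRight_fst, ← Category.assoc]; exact hv1,
      by rw [Category.assoc, whiskerRight_fst, ← Category.assoc]; exact hv2⟩
  simp only [Rel]
  rw [h, show (r ≫ (s ▷ T)) ≫ snd U T = (r ≫ (t ▷ T)) ≫ snd U T by simp only [Category.assoc, whiskerRight_snd]]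

/-- A stable subobject covering `T`, with related points and inducing the section, is the related locus. -/
theorem factors_iff (Z : Over S) (i : Z ⟶ U ⊗ T) [Mono i]
    (hst : ∀ (T' : Over S) (r : T' ⟶ R ⊗ T),
        (∃ z : T' ⟶ Z, z ≫ i = r ≫ (s ▷ T)) ↔ (∃ z : T' ⟶ Z, z ≫ i = r ≫ (t ▷ T)))
    (hcov : IsCovering (i ≫ snd U T).left) (hi : Rel s t σ i)
    {T' : Over S} (x : T' ⟶ U ⊗ T) : (∃ z : T' ⟶ Z, z ≫ i = x) ↔ Rel s t σ x := by
  refine ⟨fun ⟨z, hz⟩ => hz ▸ rel_comp s t σ z hi, fun hx => ?_⟩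
  let P := pullback (x ≫ snd U T) (i ≫ snd U T)
  let p : P ⟶ T' := pullback.fst _ _
  let z : P ⟶ Z := pullback.snd _ _
  have hp : IsCovering p.left :=
    hcov.pullback (x ≫ snd U T).left p.left z.left ((IsPullback.of_hasPullback _ _).map (Over.forget S))
  obtain ⟨r, hr1, hr2⟩ := rel_rel s t σ (rel_comp s t σ p hx) (rel_comp s t σ z hi)
    (by rw [Category.assoc, Category.assoc]; exact pullback.condition)
  obtain ⟨z', hz'⟩ := (hst P (lift r (p ≫ x ≫ snd U T))).2 ⟨z, by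
    apply CartesianMonoidalCategory.hom_ext
    · rw [Category.assoc, Category.assoc, whiskerRight_fst, lift_fst_assoc, hr2, Category.assoc]
    · rw [Category.assoc, Category.assoc, whiskerRight_snd, lift_snd]
      exact pullback.condition.symm⟩
  have e : lift r (p ≫ x ≫ snd U T) ≫ (s ▷ T) = p ≫ x := by
    apply CartesianMonoidalCategory.hom_ext
    · rw [Category.assoc, whiskerRight_fst, lift_fst_assoc, hr1]
    · rw [Category.assoc, whiskerRight_snd, lift_snd, Category.assoc]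
  rw [e] at hz'
  obtain ⟨w, hw, -⟩ := (covers_of_isCovering hp).over_desc z' fun T'' a b hab => by
    rw [← cancel_mono i, Category.assoc, Category.assoc, hz', ← Category.assoc, ← Category.assoc, hab]
  haveI := (covers_of_isCovering hp).over_epi
  exact ⟨w, by rw [← cancel_epi p, ← Category.assoc, hw, hz']⟩

theorem exists_unique_iso {Z Z' : Over S} (i : Z ⟶ U ⊗ T) (i' : Z' ⟶ U ⊗ T) [Mono i] [Mono i']
    (h : ∀ (T' : Over S) (x : T' ⟶ U ⊗ T), (∃ z : T' ⟶ Z, z ≫ i = x) ↔ (∃ z : T' ⟶ Z', z ≫ i' = x)) :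
    ∃ e : Z ≅ Z', e.hom ≫ i' = i := by
  obtain ⟨a, ha⟩ := (h Z i).1 ⟨𝟙 Z, Category.id_comp i⟩
  obtain ⟨b, hb⟩ := (h Z' i').2 ⟨𝟙 Z', Category.id_comp i'⟩
  exact ⟨⟨a, b, by rw [← cancel_mono i, Category.assoc, hb, ha, Category.id_comp],
    by rw [← cancel_mono i', Category.assoc, ha, hb, Category.id_comp]⟩, ha⟩

/-- The descent datum of a monomorphism whose points only depend on the image. -/
noncomputable def monoDatum {X₁ X W : Scheme.{u}} (p : X₁ ⟶ X) (w : W ⟶ X₁) [Mono w]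
    (h : ∀ ⦃T : Scheme.{u}⦄ (x₀ x₁ : T ⟶ X₁), x₀ ≫ p = x₁ ≫ p → (∃ v : T ⟶ W, v ≫ w = x₀) →
      ∃ v : T ⟶ W, v ≫ w = x₁) : Desc.SchDDFam (fun _ : PUnit.{u + 1} => p) where
  obj _ := Over.mk w
  φ T i j x₀ x₁ e :=
    { toFun := fun v => ⟨(h x₀ x₁ e ⟨v.1, v.2⟩).choose, (h x₀ x₁ e ⟨v.1, v.2⟩).choose_spec⟩
      invFun := fun v => ⟨(h x₁ x₀ e.symm ⟨v.1, v.2⟩).choose, (h x₁ x₀ e.symm ⟨v.1, v.2⟩).choose_spec⟩
      left_inv := fun v => Subtype.ext ((cancel_mono w).1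
        ((h x₁ x₀ e.symm ⟨_, (h x₀ x₁ e ⟨v.1, v.2⟩).choose_spec⟩).choose_spec.trans v.2.symm))
      right_inv := fun v => Subtype.ext ((cancel_mono w).1
        ((h x₀ x₁ e ⟨_, (h x₁ x₀ e.symm ⟨v.1, v.2⟩).choose_spec⟩).choose_spec.trans v.2.symm)) }
  φ_natural T T' g i j x₀ x₁ e y₀ y₁ hy₀ hy₁ e' v v' hv := by
    refine (cancel_mono w).1 ?_
    refine (h y₀ y₁ e' ⟨v'.1, v'.2⟩).choose_spec.trans ?_
    rw [← hy₁, Category.assoc]
    exact congrArg (g ≫ ·) (h x₀ x₁ e ⟨v.1, v.2⟩).choose_spec.symm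
  φ_self T i x v := Subtype.ext ((cancel_mono w).1 ((h x x rfl ⟨v.1, v.2⟩).choose_spec.trans v.2.symm))
  φ_comp T i j k x₀ x₁ x₂ e₁ e₂ v := Subtype.ext ((cancel_mono w).1
    ((h x₁ x₂ e₂ ⟨_, (h x₀ x₁ e₁ ⟨v.1, v.2⟩).choose_spec⟩).choose_spec.trans
      (h x₀ x₂ (e₁.trans e₂) ⟨v.1, v.2⟩).choose_spec.symm))

/-- Descent of immersions with a property local for the fpqc topology. -/
theorem exists_descend (P : MorphismProperty Scheme.{u}) [P.IsStableUnderBaseChange] [IsZariskiLocalAtTarget P]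
    [P.DescendsAlong (@Surjective ⊓ @Flat ⊓ @QuasiCompact)] (hPimm : P ≤ @IsImmersion)
    {X₁ X W : Scheme.{u}} (p : X₁ ⟶ X) (hp : IsCovering p) (w : W ⟶ X₁) (hw : P w)
    (h : ∀ ⦃T : Scheme.{u}⦄ (x₀ x₁ : T ⟶ X₁), x₀ ≫ p = x₁ ≫ p → (∃ v : T ⟶ W, v ≫ w = x₀) →
      ∃ v : T ⟶ W, v ≫ w = x₁) :
    ∃ (V : Scheme.{u}) (i : V ⟶ X) (g : W ⟶ V), P i ∧ IsPullback w g p i := by
  haveI := hPimm _ hw
  have hf : Presieve.ofArrows (fun _ : PUnit.{u + 1} => X₁) (fun _ => p) ∈ Scheme.fpqcPrecoverage X := by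
    rw [Presieve.ofArrows_pUnit]
    exact hp
  obtain ⟨V, ⟨e⟩⟩ := DescLib.IndQA.isEffective_of_indQA (fun _ : PUnit.{u + 1} => p) hf (monoDatum p w h)
    fun _ => MorLib.IQA.indQA_of_isImmersion w
  let a : W ⟶ pullback p V.hom := (e.inv.hom PUnit.unit).left
  let b : pullback p V.hom ⟶ W := (e.hom.hom PUnit.unit).left
  have hab : a ≫ b = 𝟙 W := congrArg (fun c => (c.hom PUnit.unit).left) e.inv_hom_id
  have hba : b ≫ a = 𝟙 _ := congrArg (fun c => (c.hom PUnit.unit).left) e.hom_inv_id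
  haveI : IsIso a := ⟨b, hab, hba⟩
  have ha : a ≫ pullback.fst p V.hom = w := Over.w (e.inv.hom PUnit.unit)
  have sq : IsPullback w (a ≫ pullback.snd p V.hom) p V.hom :=
    (IsPullback.of_hasPullback p V.hom).of_iso (asIso a).symm (Iso.refl _) (Iso.refl _) (Iso.refl _)
      (by simp [← ha]) (by simp) (by simp) (by simp)
  exact ⟨V.left, V.hom, a ≫ pullback.snd p V.hom, (covers_of_isCovering hp).descends P V.hom w _ sq hw, sq⟩

/-- Existence of the stable subscheme of a section, for closed or open graphs. -/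
theorem exists_subscheme (P : MorphismProperty Scheme.{u}) [P.IsStableUnderBaseChange] [IsZariskiLocalAtTarget P]
    [P.DescendsAlong (@Surjective ⊓ @Flat ⊓ @QuasiCompact)] (hPimm : P ≤ @IsImmersion)
    (hc : P (lift t s).left) :
    ∃ (Z : Over S) (i : Z ⟶ U ⊗ T), Mono i ∧ P i.left ∧
      (∀ (T' : Over S) (x : T' ⟶ U ⊗ T), (∃ z : T' ⟶ Z, z ≫ i = x) ↔ Rel s t σ x) ∧
      ∀ (Q : MorphismProperty Scheme.{u}) [Q.IsStableUnderBaseChange] [IsZariskiLocalAtTarget Q]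
        [Q.DescendsAlong (@Surjective ⊓ @Flat ⊓ @QuasiCompact)], Q s.left → Q (i ≫ snd U T).left := by
  obtain ⟨T₁, q, a, hq, ha⟩ := exists_lift s t σ
  let W := pullback (lift t s) (U ◁ a)
  let w : W ⟶ U ⊗ T₁ := pullback.snd _ _
  let ρ : W ⟶ R := pullback.fst _ _
  have hsqW : IsPullback ρ w (lift t s) (U ◁ a) := IsPullback.of_hasPullback _ _
  have hPw : P w.left := MorphismProperty.of_isPullback (P := P) (hsqW.map (Over.forget S)) hc
  haveI := hPimm _ hPw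
  haveI : Mono w := (Over.forget S).mono_of_mono_map (inferInstanceAs (Mono w.left))
  have key : ∀ {T' : Over S} (x : T' ⟶ U ⊗ T₁), (∃ v : T' ⟶ W, v ≫ w = x) ↔ Rel s t σ (x ≫ (U ◁ q)) := by
    intro T' x
    have e : Rel s t σ (x ≫ (U ◁ q)) ↔
        (yon S).map (x ≫ fst U T₁) ≫ qmap s t = (yon S).map (x ≫ snd U T₁ ≫ a) ≫ qmap s t := by
      simp only [Rel, Category.assoc, whiskerLeft_fst, whiskerLeft_snd]
      rw [show (yon S).map (x ≫ snd U T₁ ≫ a) ≫ qmap s t = (yon S).map (x ≫ snd U T₁ ≫ q) ≫ σ by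
        simp only [Functor.map_comp, Category.assoc, ha]]
    rw [e, qmap_eq_iff]
    constructor
    · rintro ⟨v, rfl⟩
      refine ⟨v ≫ ρ, ?_, ?_⟩
      · have h1 := congrArg (fun c => v ≫ c ≫ fst U U) hsqW.w
        simp only [Category.assoc, lift_fst, whiskerLeft_fst] at h1 ⊢
        exact h1
      · have h1 := congrArg (fun c => v ≫ c ≫ snd U U) hsqW.w
        simp only [Category.assoc, lift_snd, whiskerLeft_snd] at h1 ⊢
        exact h1
    · rintro ⟨r, hr1, hr2⟩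
      refine ⟨hsqW.lift r x ?_, hsqW.lift_snd _ _ _⟩
      apply CartesianMonoidalCategory.hom_ext
      · rw [Category.assoc, Category.assoc, lift_fst, whiskerLeft_fst, hr1]
      · rw [Category.assoc, Category.assoc, lift_snd, whiskerLeft_snd, hr2]
  have hbc := (isPullback_whiskerLeft U q).map (Over.forget S)
  have hp : IsCovering (U ◁ q).left := hq.pullback (snd U T).left _ _ hbc.flip.flip.flip
  obtain ⟨V, i₀, g₀, hPi, hsq⟩ := exists_descend P hPimm (U ◁ q).left hp w.left hPw fun T' x₀ x₁ e hx => by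
    have hS : x₁ ≫ (U ⊗ T₁).hom = x₀ ≫ (U ⊗ T₁).hom := by rw [← Over.w (U ◁ q), reassoc_of% e]
    let X₀ : Over.mk (x₀ ≫ (U ⊗ T₁).hom) ⟶ U ⊗ T₁ := Over.homMk x₀ rfl
    let X₁' : Over.mk (x₀ ≫ (U ⊗ T₁).hom) ⟶ U ⊗ T₁ := Over.homMk x₁ hS
    obtain ⟨v, hv⟩ := hx
    have h0 : ∃ v' : _ ⟶ W, v' ≫ w = X₀ :=
      ⟨Over.homMk v (by rw [← Over.w w, reassoc_of% hv]; rfl), Over.OverMorphism.ext hv⟩
    rw [key] at h0
    rw [show X₀ ≫ (U ◁ q) = X₁' ≫ (U ◁ q) from Over.OverMorphism.ext e, ← key] at h0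
    obtain ⟨v', hv'⟩ := h0
    exact ⟨v'.left, congrArg CommaMorphism.left hv'⟩
  let Z : Over S := Over.mk (i₀ ≫ (U ⊗ T).hom)
  let i : Z ⟶ U ⊗ T := Over.homMk i₀ rfl
  haveI := hPimm _ hPi
  haveI hmi : Mono i := (Over.forget S).mono_of_mono_map (inferInstanceAs (Mono i₀))
  let g : W ⟶ Z := Over.homMk g₀ (by
    show g₀ ≫ i₀ ≫ (U ⊗ T).hom = W.hom
    rw [← reassoc_of% hsq.w, Over.w (U ◁ q), Over.w w])
  have hsq' : IsPullback w g (U ◁ q) i := IsPullback.of_map (Over.forget S) (Over.OverMorphism.ext hsq.w) hsq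
  refine ⟨Z, i, hmi, hPi, fun T' x => ?_, fun Q _ _ _ hQ => ?_⟩
  · let T'' := pullback x (U ◁ q)
    let p' : T'' ⟶ T' := pullback.fst _ _
    let x' : T'' ⟶ U ⊗ T₁ := pullback.snd _ _
    have hx' : p' ≫ x = x' ≫ (U ◁ q) := pullback.condition
    have hp' : IsCovering p'.left :=
      hp.pullback x.left p'.left x'.left ((IsPullback.of_hasPullback _ _).map (Over.forget S))
    constructor
    · rintro ⟨z, rfl⟩
      refine rel_local s t σ p' hp' ?_
      rw [hx', ← key]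
      exact ⟨hsq'.lift x' (p' ≫ z) (by rw [← hx', Category.assoc]), hsq'.lift_fst _ _ _⟩
    · intro hx
      obtain ⟨v, hv⟩ := (key x').2 (hx' ▸ rel_comp s t σ p' hx)
      have hvi : (v ≫ g) ≫ i = p' ≫ x := by rw [Category.assoc, ← hsq'.w, reassoc_of% hv, hx']
      obtain ⟨z, hz, -⟩ := (covers_of_isCovering hp').over_desc (v ≫ g) fun T₃ b c hbc => by
        rw [← cancel_mono i, Category.assoc, Category.assoc, Category.assoc, ← Category.assoc v, hvi,
          ← Category.assoc, ← Category.assoc, hbc]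
      haveI := (covers_of_isCovering hp').over_epi
      exact ⟨z, by rw [← cancel_epi p', ← Category.assoc, hz, hvi]⟩
  · have h1 : IsPullback (w ≫ snd U T₁) g q (i ≫ snd U T) := hsq'.paste_horiz (isPullback_whiskerLeft U q)
    have h2 : IsPullback ρ (w ≫ snd U T₁) s a := by
      have h := hsqW.paste_vert (isPullback_whiskerLeft U a).flip
      simpa using h
    exact (covers_of_isCovering hq).descends Q _ (w ≫ snd U T₁).left g.left (h1.map (Over.forget S))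
      (MorphismProperty.of_isPullback (P := Q) (h2.map (Over.forget S)) hQ)

end Groth.Agent.GrpdQuotSec
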